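import Groth.Agent.Misc15.UnramH1.Theta

/-!
An automorphism of the trivialising domain whose reduction fixes a second trivialising algebra acts trivially
on the characters.
-/

set_option autoImplicit false
set_option linter.style.haveILetI false

universe u

open CategoryTheory MonoidalCategory CartesianMonoidalCategory MonObj AlgebraicGeometry

noncomputable section

namespace Groth.Misc15.UnramH1

open Groth.Reductive.MTInt Groth.Misc15.TorusDvr

variable {A : Type u} [CommRing A] {T : Over (Spec (CommRingCat.of A))} [GrpObj T]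
  {B : Type u} [CommRing B] [Algebra A B] {B' : Type u} [CommRing B'] [Algebra A B']
  (τ : Triv T (sp (algebraMap A B))) (τ' : Triv T (sp (algebraMap A B')))

theorem Φ_congr {S : Type u} [CommRing S] {β β' : B →+* S} (e : β = β') {c : A →+* S}
    (h : β.comp (algebraMap A B) = c) (h' : β'.comp (algebraMap A B) = c) (x : sp c ⟶ T)
    (m : Multiplicative τ.M) : Φ τ β c h x m = Φ τ β' c h' x m := by
  subst e; rfl

/-- Comparison of two trivialisations over a common domain. -/
theorem exists_theta {D : Type u} [CommRing D] [IsDomain D] (β : B →+* D) (β' : B' →+* D)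
    (h : β.comp (algebraMap A B) = β'.comp (algebraMap A B')) :
    ∃ θ : Multiplicative τ'.M → Multiplicative τ.M, ∀ (S : Type u) [CommRing S] (f : D →+* S) (c : A →+* S)
      (h1 : (f.comp β).comp (algebraMap A B) = c) (h2 : (f.comp β').comp (algebraMap A B') = c)
      (x : sp c ⟶ T) (n : Multiplicative τ'.M),
      Φ τ' (f.comp β') c h2 x n = Φ τ (f.comp β) c h1 x (θ n) := by
  obtain ⟨θ, hθ⟩ := exists_char τ β (cD := β.comp (algebraMap A B)) rfl
    (fun S _ f =>
      { toFun := fun x => ⇑(Ψ τ' β' h.symm f x)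
        map_one' := by rw [map_one]; rfl
        map_mul' := fun x y => by rw [map_mul]; rfl })
    (fun S S' _ _ f g x n => DFunLike.congr_fun (Ψ_map τ' β' h.symm f g x) n)
  refine ⟨θ, fun S _ f c h1 h2 x n => ?_⟩
  subst h1
  exact hθ S f x n

include τ' in
/-- Trivial action on the characters. -/
theorem Φ_comp_eq [IsDomain B] {D : Type u} [CommRing D] [IsDomain D] (π : B →+* D) (emb : B' →+* D)
    (hc : π.comp (algebraMap A B) = emb.comp (algebraMap A B')) (g : B →+* B)
    (hg : g.comp (algebraMap A B) = algebraMap A B) (s : D →+* D) (hs : π.comp g = s.comp π)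
    (hsemb : s.comp emb = emb) (S : Type u) [CommRing S] (β : B →+* S) (c : A →+* S)
    (h : β.comp (algebraMap A B) = c) (h' : (β.comp g).comp (algebraMap A B) = c)
    (x : sp c ⟶ T) (m : Multiplicative τ.M) : Φ τ (β.comp g) c h' x m = Φ τ β c h x m := by
  obtain ⟨θ, hθ⟩ := exists_theta τ τ (RingHom.id B) g (by rw [hg, RingHom.id_comp])
  obtain ⟨θ₂, hθ₂⟩ := exists_theta τ τ' π emb hc
  obtain ⟨θ₃, hθ₃⟩ := exists_theta τ' τ emb π hc.symm
  have h23 : ∀ m, θ₂ (θ₃ m) = m := fun m => Ψ_ext τ π (cD := π.comp (algebraMap A B)) rfl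
    fun S _ f x => by
      have hb : (f.comp emb).comp (algebraMap A B') = f.comp (π.comp (algebraMap A B)) := by
        rw [hc]; rfl
      exact ((hθ₂ S f _ rfl hb x (θ₃ m)).symm.trans (hθ₃ S f _ hb rfl x m).symm)
  have hfix : ∀ m, θ m = m := fun m => Ψ_ext τ π (cD := π.comp (algebraMap A B)) rfl fun S _ f x => by
    obtain ⟨n, rfl⟩ : ∃ n, θ₂ n = m := ⟨_, h23 m⟩
    have e0 : ((f.comp s).comp π) = (f.comp π).comp g := by
      rw [RingHom.comp_assoc, RingHom.comp_assoc, hs]
    have a1 : ((f.comp s).comp π).comp (algebraMap A B) = f.comp (π.comp (algebraMap A B)) := by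
      rw [e0, RingHom.comp_assoc, hg]; rfl
    have a2 : ((f.comp π).comp g).comp (algebraMap A B) = f.comp (π.comp (algebraMap A B)) := e0 ▸ a1
    have e1 : (f.comp s).comp emb = f.comp emb := by rw [RingHom.comp_assoc, hsemb]
    have hb : (f.comp emb).comp (algebraMap A B') = f.comp (π.comp (algebraMap A B)) := by
      rw [hc]; rfl
    have hb' : ((f.comp s).comp emb).comp (algebraMap A B') = f.comp (π.comp (algebraMap A B)) := by
      rw [e1, hb]
    have k1 := hθ S (f.comp π) _ rfl a2 x (θ₂ n)
    have k2 := hθ₂ S (f.comp s) _ a1 hb' x n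
    have k3 := hθ₂ S f _ rfl hb x n
    exact k1.symm.trans ((Φ_congr τ e0 a1 a2 x _).symm.trans
      (k2.symm.trans ((Φ_congr τ' e1 hb' hb x _).trans k3)))
  have := hθ S β c h h' x m
  rw [hfix] at this
  exact this

end Groth.Misc15.UnramH1
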