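import Groth.Agent.Misc15.TorusDvr.Pts
import Mathlib.RingTheory.Bialgebra.MonoidAlgebra

/-!
Natural multiplicative functions on the points of a group with a trivialisation over a domain are characters
of the trivialisation.
-/

set_option autoImplicit false
set_option linter.style.haveILetI false

universe u

open CategoryTheory MonoidalCategory CartesianMonoidalCategory MonObj AlgebraicGeometry TensorProduct

noncomputable section

namespace Groth.Misc15.UnramH1

open Groth.Reductive.MTInt Groth.Misc15.TorusDvr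

variable {A : Type u} [CommRing A] {T : Over (Spec (CommRingCat.of A))} [GrpObj T]
  {B : Type u} [CommRing B] [Algebra A B] (τ : Triv T (sp (algebraMap A B)))

/-- Points of algebras over `D` as homomorphisms out of the characters. -/
def Ψ {D : Type u} [CommRing D] (β : B →+* D) {cD : A →+* D} (hβ : β.comp (algebraMap A B) = cD)
    {S : Type u} [CommRing S] (f : D →+* S) : (sp (f.comp cD) ⟶ T) ≃* (Multiplicative τ.M →* S) :=
  Φ τ (f.comp β) (f.comp cD) (by rw [RingHom.comp_assoc, hβ])

theorem Ψ_map {D : Type u} [CommRing D] (β : B →+* D) {cD : A →+* D} (hβ : β.comp (algebraMap A B) = cD)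
    {S S' : Type u} [CommRing S] [CommRing S'] (f : D →+* S) (g : S →+* S') (x : sp (f.comp cD) ⟶ T) :
    Ψ τ β hβ (g.comp f) (spMap g _ _ (RingHom.comp_assoc _ _ _).symm ≫ x) =
      g.toMonoidHom.comp (Ψ τ β hβ f x) :=
  Φ_map τ g (f.comp β) (f.comp cD) _ _ (RingHom.comp_assoc _ _ _).symm x

/-- A natural multiplicative function on points is a character. -/
theorem exists_char {D : Type u} [CommRing D] [IsDomain D] (β : B →+* D) {cD : A →+* D}
    (hβ : β.comp (algebraMap A B) = cD) {N : Type*}
    (P : ∀ (S : Type u) [CommRing S] (f : D →+* S), (sp (f.comp cD) ⟶ T) →* (N → S))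
    (hP : ∀ (S S' : Type u) [CommRing S] [CommRing S'] (f : D →+* S) (g : S →+* S') (x : sp (f.comp cD) ⟶ T)
      (n : N), P S' (g.comp f) (spMap g _ _ (RingHom.comp_assoc _ _ _).symm ≫ x) n = g (P S f x n)) :
    ∃ θ : N → Multiplicative τ.M, ∀ (S : Type u) [CommRing S] (f : D →+* S) (x : sp (f.comp cD) ⟶ T) (n : N),
      P S f x n = Ψ τ β hβ f x (θ n) := by
  let U := MonoidAlgebra D (Multiplicative τ.M)
  let j : D →+* U := algebraMap D U
  obtain ⟨x₀, hx₀⟩ : ∃ x₀, Ψ τ β hβ j x₀ = MonoidAlgebra.of D (Multiplicative τ.M) :=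
    (Ψ τ β hβ j).surjective _
  have hev : ∀ (S : Type u) [CommRing S] (F : U →+* S) (x : sp ((F.comp j).comp cD) ⟶ T),
      (∀ m, Ψ τ β hβ (F.comp j) x m = F (MonoidAlgebra.of D _ m)) →
      ∀ n, P S (F.comp j) x n = F (P U j x₀ n) := by
    intro S _ F x hx n
    have h1 : x = spMap F _ _ (RingHom.comp_assoc _ _ _).symm ≫ x₀ := by
      apply (Ψ τ β hβ (F.comp j)).injective
      rw [Ψ_map]
      exact MonoidHom.ext fun m => (hx m).trans (by rw [hx₀]; rfl)
    rw [h1, hP]
  have hgl : ∀ n, IsGroupLikeElem D (P U j x₀ n) := by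
    intro n
    have h0 : (Bialgebra.counitAlgHom D U).toRingHom.comp j = RingHom.id D := RingHom.ext fun d => by
      exact (Bialgebra.counitAlgHom D U).commutes d
    have hl : (Algebra.TensorProduct.includeLeft : U →ₐ[D] U ⊗[D] U).toRingHom.comp j =
        algebraMap D (U ⊗[D] U) := RingHom.ext fun d =>
      (Algebra.TensorProduct.includeLeft : U →ₐ[D] U ⊗[D] U).commutes d
    have hr : (Algebra.TensorProduct.includeRight : U →ₐ[D] U ⊗[D] U).toRingHom.comp j =
        algebraMap D (U ⊗[D] U) := RingHom.ext fun d =>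
      (Algebra.TensorProduct.includeRight : U →ₐ[D] U ⊗[D] U).commutes d
    have hc : (Bialgebra.comulAlgHom D U).toRingHom.comp j = algebraMap D (U ⊗[D] U) := RingHom.ext fun d =>
      (Bialgebra.comulAlgHom D U).commutes d
    have hev' : ∀ (S : Type u) [CommRing S] (F : U →+* S) (f : D →+* S), F.comp j = f →
        ∀ (x : sp (f.comp cD) ⟶ T), (∀ m, Ψ τ β hβ f x m = F (MonoidAlgebra.of D _ m)) →
        P S f x n = F (P U j x₀ n) := by
      intro S _ F f hf
      subst hf
      exact fun x hx => hev S F x hx n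
    refine ⟨?_, ?_⟩
    · have h1 := hev' D (Bialgebra.counitAlgHom D U).toRingHom (RingHom.id D) h0 1 (fun m => by
        rw [map_one, MonoidHom.one_apply]
        show 1 = Coalgebra.counit (R := D) (MonoidAlgebra.of D _ m)
        rw [MonoidAlgebra.of_apply, MonoidAlgebra.counit_single]
        simp)
      rw [map_one, Pi.one_apply] at h1
      exact h1.symm
    · let V := U ⊗[D] U
      let ψ := Ψ τ β hβ (algebraMap D V)
      let xl := ψ.symm ((Algebra.TensorProduct.includeLeft : U →ₐ[D] V).toRingHom.toMonoidHom.comp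
        (MonoidAlgebra.of D _))
      let xr := ψ.symm ((Algebra.TensorProduct.includeRight : U →ₐ[D] V).toRingHom.toMonoidHom.comp
        (MonoidAlgebra.of D _))
      have e1 := hev' V _ _ hl xl (fun m => DFunLike.congr_fun (ψ.apply_symm_apply _) m)
      have e2 := hev' V _ _ hr xr (fun m => DFunLike.congr_fun (ψ.apply_symm_apply _) m)
      have e3 := hev' V _ _ hc (xl * xr) (fun m => by
        rw [map_mul, MonoidHom.mul_apply, DFunLike.congr_fun (ψ.apply_symm_apply _) m,
          DFunLike.congr_fun (ψ.apply_symm_apply _) m]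
        show ((MonoidAlgebra.of D _ m) ⊗ₜ[D] (1 : U)) * ((1 : U) ⊗ₜ[D] MonoidAlgebra.of D _ m) =
          Coalgebra.comul (MonoidAlgebra.of D _ m)
        rw [Algebra.TensorProduct.tmul_mul_tmul, _root_.mul_one, _root_.one_mul]
        exact (MonoidAlgebra.isGroupLikeElem_of (A := D) m).comul_eq_tmul_self.symm)
      rw [map_mul, Pi.mul_apply, e1, e2] at e3
      refine e3.symm.trans ?_
      show (P U j x₀ n ⊗ₜ[D] (1 : U)) * ((1 : U) ⊗ₜ[D] P U j x₀ n) = _
      rw [Algebra.TensorProduct.tmul_mul_tmul, _root_.mul_one, _root_.one_mul]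
  choose θ hθ using fun n => MonoidAlgebra.isGroupLikeElem_iff_mem_range_of.1 (hgl n)
  refine ⟨θ, fun S _ f x n => ?_⟩
  let F : U →+* S := MonoidAlgebra.liftNCRingHom f (Ψ τ β hβ f x) fun _ _ => Commute.all _ _
  have hF : F.comp j = f := RingHom.ext fun d => by
    show F (MonoidAlgebra.single 1 d) = f d
    simp [F, MonoidAlgebra.liftNCRingHom]
  have hFof : ∀ m, F (MonoidAlgebra.of D _ m) = Ψ τ β hβ f x m := fun m => by
    simp [F, MonoidAlgebra.liftNCRingHom, MonoidAlgebra.of_apply]
  clear_value F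
  subst hF
  rw [hev S F x (fun m => (hFof m).symm), ← hθ, hFof]

/-- Characters are separated by the points. -/
theorem Ψ_ext {D : Type u} [CommRing D] [Nontrivial D] (β : B →+* D) {cD : A →+* D}
    (hβ : β.comp (algebraMap A B) = cD) {m m' : Multiplicative τ.M}
    (h : ∀ (S : Type u) [CommRing S] (f : D →+* S) (x : sp (f.comp cD) ⟶ T),
      Ψ τ β hβ f x m = Ψ τ β hβ f x m') : m = m' := by
  let U := MonoidAlgebra D (Multiplicative τ.M)
  obtain ⟨x₀, hx₀⟩ : ∃ x₀, Ψ τ β hβ (algebraMap D U) x₀ = MonoidAlgebra.of D (Multiplicative τ.M) :=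
    (Ψ τ β hβ _).surjective _
  have h1 := h U (algebraMap D U) x₀
  rw [hx₀] at h1
  exact MonoidAlgebra.of_injective h1

end Groth.Misc15.UnramH1
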