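import Mathlib.Analysis.Normed.Unbundled.SpectralNorm
import Mathlib.Topology.Algebra.Valued.NormedValued
import Mathlib.RingTheory.Valuation.Integral
import Mathlib.RingTheory.LocalRing.ResidueField.Basic
import Mathlib.NumberTheory.NumberField.Completion.FinitePlace

/-!
The ring of integers of an algebraic extension of a complete field, as an algebra over a local ring of integers.
-/

set_option autoImplicit false
set_option linter.style.haveILetI false

universe u

noncomputable section

namespace Groth.Misc15.UnramH1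

variable (A : Type u) [CommRing A] [IsLocalRing A] (𝕜 : Type u) [NontriviallyNormedField 𝕜] [CompleteSpace 𝕜]
  [IsUltrametricDist 𝕜] [Algebra A 𝕜]

/-- The integers of an algebraic extension. -/
theorem exists_ball (hle : ∀ a, ‖algebraMap A 𝕜 a‖ ≤ 1)
    (hlt : ∀ a ∈ IsLocalRing.maximalIdeal A, ‖algebraMap A 𝕜 a‖ < 1)
    (Ω : Type u) [Field Ω] [Algebra 𝕜 Ω] [Algebra.IsAlgebraic 𝕜 Ω] [Algebra A Ω] [IsScalarTower A 𝕜 Ω] :
    ∃ B : Subalgebra A Ω, IsLocalRing B ∧ IsLocalHom (algebraMap A B) ∧ (∀ x, IsIntegral A x → x ∈ B) ∧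
      ∀ (σ : Ω ≃ₐ[𝕜] Ω) (x : Ω), x ∈ B → σ x ∈ B := by
  letI : NontriviallyNormedField Ω := spectralNorm.nontriviallyNormedField 𝕜 Ω
  letI : NormedAlgebra 𝕜 Ω := spectralNorm.normedAlgebra 𝕜 Ω
  haveI : IsUltrametricDist Ω :=
    IsUltrametricDist.isUltrametricDist_of_isNonarchimedean_norm isNonarchimedean_spectralNorm
  let v := NormedField.valuation (K := Ω)
  have hmem : ∀ x : Ω, x ∈ v.integer ↔ ‖x‖ ≤ 1 := fun x => by
    rw [Valuation.mem_integer_iff, ← NNReal.coe_le_coe]; rfl
  have hA : ∀ a : A, algebraMap A Ω a ∈ v.integer := fun a => by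
    rw [hmem, IsScalarTower.algebraMap_apply A 𝕜 Ω, norm_algebraMap']
    exact hle a
  let B : Subalgebra A Ω := { v.integer with algebraMap_mem' := hA }
  have hB : ∀ x, x ∈ B ↔ ‖x‖ ≤ 1 := hmem
  haveI hloc : IsLocalRing B := by
    haveI : Nontrivial B := inferInstance
    refine IsLocalRing.of_isUnit_or_isUnit_one_sub_self fun a => ?_
    have key : ∀ b : B, ‖(b : Ω)‖ = 1 → IsUnit b := fun b hb => isUnit_iff_exists_inv.2
      ⟨⟨(b : Ω)⁻¹, (hB _).2 (by rw [norm_inv, hb, inv_one])⟩,
        Subtype.ext (mul_inv_cancel₀ (fun h0 => by simp [h0] at hb))⟩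
    rcases ((hB _).1 a.2).lt_or_eq with h | h
    · refine Or.inr (key _ ?_)
      show ‖(1 : Ω) - (a : Ω)‖ = 1
      rw [sub_eq_add_neg, IsUltrametricDist.norm_add_eq_max_of_norm_ne_norm (by rw [norm_neg, norm_one]; exact h.ne'),
        norm_neg, norm_one, max_eq_left h.le]
    · exact Or.inl (key a h)
  refine ⟨B, hloc, ⟨fun a ha => ?_⟩, fun x hx => ?_, fun σ x hx => ?_⟩
  · by_contra hna
    have h2 : ‖((algebraMap A B a : B) : Ω)‖ < 1 := by
      show ‖algebraMap A Ω a‖ < 1
      rw [IsScalarTower.algebraMap_apply A 𝕜 Ω, norm_algebraMap']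
      exact hlt a ((IsLocalRing.mem_maximalIdeal _).2 hna)
    obtain ⟨w, hw⟩ := isUnit_iff_exists_inv.1 ha
    have h3 := congrArg (fun z : B => ‖(z : Ω)‖) hw
    simp only [MulMemClass.coe_mul, norm_mul, OneMemClass.coe_one, norm_one] at h3
    have h4 := (hB _).1 w.2
    nlinarith [norm_nonneg (w : Ω), norm_nonneg ((algebraMap A B a : B) : Ω)]
  · obtain ⟨p, hp, hpx⟩ := hx
    let ψ : A →+* v.integer := (algebraMap A Ω).codRestrict v.integer hA
    exact (Valuation.integer.integers v).mem_of_integral ⟨p.map ψ, hp.map _, by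
      rw [Polynomial.eval₂_map]; exact hpx⟩
  · rw [hB] at hx ⊢
    exact (spectralNorm_eq_of_equiv σ x).symm.trans_le hx

theorem adicCompletion_norm (A : Type u) [CommRing A] [IsDomain A] [IsDiscreteValuationRing A]
    (v : IsDedekindDomain.HeightOneSpectrum A) :
    letI : (Valued.v : Valuation (v.adicCompletion (FractionRing A)) (WithZero (Multiplicative ℤ))).RankOne :=
      Valuation.IsRankOneDiscrete.rankOne _ (show (1 : NNReal) < 2 by norm_num)
    letI : NontriviallyNormedField (v.adicCompletion (FractionRing A)) :=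
      Valued.toNontriviallyNormedField (L := v.adicCompletion (FractionRing A)) (Γ₀ := WithZero (Multiplicative ℤ))
    (∀ a : A, ‖algebraMap A (v.adicCompletion (FractionRing A)) a‖ ≤ 1) ∧
      ∀ a ∈ IsLocalRing.maximalIdeal A, ‖algebraMap A (v.adicCompletion (FractionRing A)) a‖ < 1 := by
  letI : (Valued.v : Valuation (v.adicCompletion (FractionRing A)) (WithZero (Multiplicative ℤ))).RankOne :=
    Valuation.IsRankOneDiscrete.rankOne _ (show (1 : NNReal) < 2 by norm_num)
  have hv : ∀ a : A, Valued.v (algebraMap A (v.adicCompletion (FractionRing A)) a) =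
      v.valuation (FractionRing A) (algebraMap A _ a) := fun a => by
    rw [IsScalarTower.algebraMap_apply A (FractionRing A) (v.adicCompletion (FractionRing A))]
    exact v.valuedAdicCompletion_eq_valuation' _
  refine ⟨fun a => ?_, fun a ha => ?_⟩
  · rw [Valued.toNormedField.norm_le_one_iff, hv]
    exact v.valuation_le_one a
  · rw [Valued.toNormedField.norm_lt_one_iff, hv, v.valuation_lt_one_iff_mem,
      IsLocalRing.eq_maximalIdeal v.isMaximal]
    exact ha

end Groth.Misc15.UnramH1
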