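import Groth.Agent.Misc15.MultH1.SplitPts
import Groth.Agent.Misc15.RatTorus.Schemes
import Groth.Agent.Misc15.TorusDvr.Pts
import Groth.Agent.Reductive.MultGa

/-!
The characters of a form of the generic fibre, evaluated at points of the group over the base ring.
-/

set_option autoImplicit false
set_option linter.style.haveILetI false

universe u

open CategoryTheory MonoidalCategory CartesianMonoidalCategory MonObj AlgebraicGeometry TensorProduct
open Groth.AlgGrp2 Groth.TorusPts Groth.Misc15.RatTorus Groth.Misc15.MultH1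

noncomputable section

namespace Groth.Misc15.UnramH1

open Groth.Misc15.TorusDvr

variable {A K E : Type u} [CommRing A] [Field K] [Algebra A K] [Field E] [Algebra K E] [Algebra A E]
  [IsScalarTower A K E]
  {M : Over (Spec (CommRingCat.of A))} [GrpObj M] (F : Form K E)
  (j : F.sch ≅ Red.bc (str A K) M) [IsMonHom j.hom]

section Alg

variable {S : Type u} [CommRing S] [Algebra K S] (cA : A →+* S) (hc : (algebraMap K S).comp (algebraMap A K) = cA)

/-- test objects over the base -/
def mapIso : (Over.map (str A K)).obj (CoactBr.sp K S) ≅ sp cA :=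
  Over.isoMk (Iso.refl _) (by
    show 𝟙 _ ≫ Spec.map (CommRingCat.ofHom cA) = Spec.map (CommRingCat.ofHom (algebraMap K S)) ≫ str A K
    rw [Category.id_comp, ← Spec.map_comp, ← CommRingCat.ofHom_comp, hc])

/-- points over the base as points of the form -/
def toF (x : sp cA ⟶ M) : CoactBr.sp K S ⟶ F.sch :=
  (Groth.Reductive.bcPointEquiv (str A K) M (CoactBr.sp K S)).symm ((mapIso cA hc).hom ≫ x) ≫ j.inv

theorem toF_mul (x y : sp cA ⟶ M) : toF F j cA hc (x * y) = toF F j cA hc x * toF F j cA hc y := by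
  haveI : IsMonHom j.inv := inferInstance
  rw [toF, toF, toF, MonObj.comp_mul, map_mul, MonObj.mul_comp]

theorem toF_one : toF F j cA hc (1 : sp cA ⟶ M) = 1 := by
  haveI : IsMonHom j.inv := inferInstance
  rw [toF, MonObj.comp_one, map_one, MonObj.one_comp]

theorem exists_toF (y : CoactBr.sp K S ⟶ F.sch) : ∃ x, toF F j cA hc x = y :=
  ⟨(mapIso cA hc).inv ≫ Groth.Reductive.bcPointEquiv (str A K) M _ (y ≫ j.hom), by
    rw [toF, Iso.hom_inv_id_assoc, MulEquiv.symm_apply_apply, Category.assoc, Iso.hom_inv_id, Category.comp_id]⟩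

theorem toF_map {S' : Type u} [CommRing S'] [Algebra K S'] (g : S →ₐ[K] S') (cA' : A →+* S')
    (hc' : (algebraMap K S').comp (algebraMap A K) = cA') (h : (g : S →+* S').comp cA = cA') (x : sp cA ⟶ M) :
    toF F j cA' hc' (spMap (g : S →+* S') cA cA' h ≫ x) = CoactBr.pt g ≫ toF F j cA hc x := by
  rw [toF, toF, ← Category.assoc (CoactBr.pt g)]
  congr 1
  apply (Groth.Reductive.bcPointEquiv (str A K) M _).injective
  rw [MulEquiv.apply_symm_apply, Groth.Reductive.bcPointEquiv_comp, MulEquiv.apply_symm_apply,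
    ← Category.assoc, ← Category.assoc]
  congr 1

/-- values on characters -/
def valAlg (ψ : E →ₐ[K] S) (x : sp cA ⟶ M) (n : F.N) : S :=
  Algebra.TensorProduct.productMap ψ (AlgHom.id K S) (F.W (toF F j cA hc x) n)

end Alg

omit [IsScalarTower A K E] [Algebra A E] in
theorem valAlg_congr {S : Type u} [CommRing S] {I I' : Algebra K S} (e : I = I') (cA : A →+* S)
    (h : (@algebraMap K S _ _ I).comp (algebraMap A K) = cA)
    (h' : (@algebraMap K S _ _ I').comp (algebraMap A K) = cA)
    (φ : @AlgHom K E S _ _ _ _ I) (φ' : @AlgHom K E S _ _ _ _ I') (hφ : ∀ a, φ a = φ' a)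
    (x : sp cA ⟶ M) (n : F.N) :
    @valAlg A K E _ _ _ _ _ M _ F j S _ I cA h φ x n = @valAlg A K E _ _ _ _ _ M _ F j S _ I' cA h' φ' x n := by
  subst e
  rw [show φ = φ' from AlgHom.ext hφ]

/-- The value of the characters at a point over an algebra of the splitting field. -/
def val {S : Type u} [CommRing S] (ψ : E →+* S) (cA : A →+* S) (h : ψ.comp (algebraMap A E) = cA) :
    (sp cA ⟶ M) →* (F.N → S) :=
  letI : Algebra K S := (ψ.comp (algebraMap K E)).toAlgebra
  have hc : (algebraMap K S).comp (algebraMap A K) = cA := by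
    rw [← h, IsScalarTower.algebraMap_eq A K E]; rfl
  let ψ' : E →ₐ[K] S := { ψ with commutes' := fun _ => rfl }
  { toFun := fun x n => valAlg F j cA hc ψ' x n
    map_one' := funext fun n => by
      show valAlg F j cA hc ψ' 1 n = 1
      rw [valAlg, toF_one, F.W_one, MonoidHom.one_apply, map_one]
    map_mul' := fun x y => funext fun n => by
      show valAlg F j cA hc ψ' (x * y) n = valAlg F j cA hc ψ' x n * valAlg F j cA hc ψ' y n
      rw [valAlg, valAlg, valAlg, toF_mul, F.W_mul, MonoidHom.mul_apply, map_mul] }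

theorem val_eq {S : Type u} [CommRing S] [I' : Algebra K S] (φ : E →ₐ[K] S) (ψ : E →+* S) (cA : A →+* S)
    (h : ψ.comp (algebraMap A E) = cA) (hψ : ∀ a, φ a = ψ a)
    (hc : (algebraMap K S).comp (algebraMap A K) = cA) (x : sp cA ⟶ M) (n : F.N) :
    val F j ψ cA h x n = valAlg F j cA hc φ x n :=
  valAlg_congr F j (I := (ψ.comp (algebraMap K E)).toAlgebra) (I' := I')
    (Algebra.algebra_ext _ _ fun a => (hψ _).symm.trans (φ.commutes a))
    cA _ hc _ φ (fun a => (hψ a).symm) x n

theorem val_congr {S : Type u} [CommRing S] {ψ ψ' : E →+* S} (e : ψ = ψ') (cA : A →+* S)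
    (h : ψ.comp (algebraMap A E) = cA) (h' : ψ'.comp (algebraMap A E) = cA) (x : sp cA ⟶ M) (n : F.N) :
    val F j ψ cA h x n = val F j ψ' cA h' x n := by
  subst e; rfl

theorem val_map {S S' : Type u} [CommRing S] [CommRing S'] (ψ : E →+* S) (g : S →+* S') (cA : A →+* S)
    (cA' : A →+* S') (h : ψ.comp (algebraMap A E) = cA) (h' : (g.comp ψ).comp (algebraMap A E) = cA')
    (hg : g.comp cA = cA') (x : sp cA ⟶ M) (n : F.N) :
    val F j (g.comp ψ) cA' h' (spMap g cA cA' hg ≫ x) n = g (val F j ψ cA h x n) := by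
  letI : Algebra K S := (ψ.comp (algebraMap K E)).toAlgebra
  letI : Algebra K S' := ((g.comp ψ).comp (algebraMap K E)).toAlgebra
  let g' : S →ₐ[K] S' := { g with commutes' := fun _ => rfl }
  let ψ' : E →ₐ[K] S := { ψ with commutes' := fun _ => rfl }
  let ψ'' : E →ₐ[K] S' := { g.comp ψ with commutes' := fun _ => rfl }
  have hc : (algebraMap K S).comp (algebraMap A K) = cA := by
    rw [← h, IsScalarTower.algebraMap_eq A K E]; rfl
  have hc' : (algebraMap K S').comp (algebraMap A K) = cA' := by
    rw [← h', IsScalarTower.algebraMap_eq A K E]; rfl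
  show valAlg F j cA' hc' ψ'' (spMap (g' : S →+* S') cA cA' hg ≫ x) n = g' (valAlg F j cA hc ψ' x n)
  rw [valAlg, valAlg, toF_map F j cA hc g' cA' hc' hg, F.W_comp]
  generalize F.W (toF F j cA hc x) n = y
  induction y using TensorProduct.induction_on with
  | zero => simp
  | add a b ha hb => simp only [map_add, ha, hb]
  | tmul a b => simp [ψ', ψ'', g']

/-- Twisting the splitting field twists the characters. -/
theorem val_twist {S : Type u} [CommRing S] (ψ : E →+* S) (g₀ : E ≃ₐ[K] E) (cA : A →+* S)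
    (h : ψ.comp (algebraMap A E) = cA) (h' : (ψ.comp (g₀ : E →+* E)).comp (algebraMap A E) = cA)
    (x : sp cA ⟶ M) (n : F.N) :
    val F j (ψ.comp (g₀ : E →+* E)) cA h' x n = val F j ψ cA h x (F.ρ g₀ n) := by
  letI : Algebra K S := (ψ.comp (algebraMap K E)).toAlgebra
  let ψ' : E →ₐ[K] S := { ψ with commutes' := fun _ => rfl }
  let ψg : E →ₐ[K] S := ψ'.comp g₀.toAlgHom
  have hc : (algebraMap K S).comp (algebraMap A K) = cA := by
    rw [← h, IsScalarTower.algebraMap_eq A K E]; rfl
  have e1 : val F j (ψ.comp (g₀ : E →+* E)) cA h' x n = valAlg F j cA hc ψg x n := by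
    exact val_eq F j ψg _ cA h' (fun _ => rfl) hc x n
  rw [e1]
  show _ = valAlg F j cA hc ψ' x (F.ρ g₀ n)
  rw [valAlg, valAlg, ← F.W_equiv]
  generalize F.W (toF F j cA hc x) n = y
  induction y using TensorProduct.induction_on with
  | zero => simp
  | add a b ha hb => simp only [map_add, ha, hb]
  | tmul a b => simp [ψg, ψ', galS]

/-- The characters are separated by the points over algebras over a field extension. -/
theorem val_separated {Ω : Type u} [Field Ω] (τ : E →+* Ω) {n n' : F.N}
    (h : ∀ (S : Type u) [CommRing S] (f : Ω →+* S)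
      (x : sp (f.comp (τ.comp (algebraMap A E))) ⟶ M),
      val F j (f.comp τ) _ (RingHom.comp_assoc _ _ _) x n = val F j (f.comp τ) _ (RingHom.comp_assoc _ _ _) x n') :
    n = n' := by
  letI : Algebra K Ω := (τ.comp (algebraMap K E)).toAlgebra
  let τ' : E →ₐ[K] Ω := { τ with commutes' := fun _ => rfl }
  let S := Ω ⊗[K] F.A
  let il : Ω →ₐ[K] S := Algebra.TensorProduct.includeLeft
  let ir : F.A →ₐ[K] S := Algebra.TensorProduct.includeRight
  have hc : (algebraMap K S).comp (algebraMap A K) =
      (il : Ω →+* S).comp (τ.comp (algebraMap A E)) := by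
    rw [← il.comp_algebraMap, IsScalarTower.algebraMap_eq A K E]; rfl
  obtain ⟨x, hx⟩ := exists_toF F j _ hc (CoactBr.pt ir)
  have hval : ∀ m, val F j ((il : Ω →+* S).comp τ) _ (RingHom.comp_assoc _ _ _) x m =
      Algebra.TensorProduct.map τ' (AlgHom.id K F.A) (chr F.e m) := by
    intro m
    let φ : E →ₐ[K] S := il.comp τ'
    rw [val_eq F j φ ((il : Ω →+* S).comp τ) _ _ (fun _ => rfl) hc]
    rw [valAlg, hx, F.W_pt, F.V_apply]
    generalize chr F.e m = y
    induction y using TensorProduct.induction_on with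
    | zero => simp
    | add a b ha hb => simp only [map_add, ha, hb]
    | tmul a b =>
      simp [φ, il, ir, τ', bmap]
      show ((τ a) ⊗ₜ[K] (1 : F.A)) * ((1 : Ω) ⊗ₜ[K] b) = _
      rw [Algebra.TensorProduct.tmul_mul_tmul, _root_.mul_one, _root_.one_mul]
  have hinj : Function.Injective (Algebra.TensorProduct.map τ' (AlgHom.id K F.A)) :=
    Module.Flat.rTensor_preserves_injective_linearMap (M := F.A) τ'.toLinearMap τ'.injective
  refine chr_injective F.e (hinj ?_)
  rw [← hval, ← hval]
  exact h S (il : Ω →+* S) x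

end Groth.Misc15.UnramH1
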