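import Mathlib.RingTheory.LocalRing.ResidueField.Basic
import Mathlib.FieldTheory.Galois.Basic
import Mathlib.FieldTheory.PrimitiveElement
import Mathlib.FieldTheory.Extension
import Mathlib.RingTheory.AdjoinRoot
import Mathlib.RingTheory.Ideal.GoingUp
import Mathlib.GroupTheory.Sylow
import Mathlib.GroupTheory.SpecificGroups.Cyclic

/-!
Galois extensions cut out by a polynomial with separable reduction, compared with residual Galois groups.
-/

set_option autoImplicit false
set_option linter.style.haveILetI false

universe u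

open Polynomial IntermediateField

noncomputable section

namespace Groth.Misc15.UnramH1

/-- A group embedding in one with cyclic Sylow subgroups has cyclic Sylow subgroups. -/
theorem isCyclic_sylow_of_injective {G H : Type*} [Group G] [Group H] (r : G →* H) (hr : Function.Injective r)
    (hH : ∀ (p : ℕ) [Fact p.Prime] (P : Sylow p H), IsCyclic P) (p : ℕ) [Fact p.Prime] (P : Sylow p G) :
    IsCyclic P := by
  obtain ⟨Q, hQ⟩ := (P.isPGroup'.map r).exists_le_sylow
  haveI := hH p Q
  exact isCyclic_of_injective ((Subgroup.inclusion hQ).comp (r.subgroupMap (P : Subgroup G)))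
    ((Subgroup.inclusion_injective hQ).comp fun x y h => Subtype.ext (hr (congrArg Subtype.val h)))

variable {A : Type u} [CommRing A] [IsLocalRing A]

/-- A monic polynomial with separable reduction is separable over every field. -/
theorem separable_map (f : A[X]) (hf : f.Monic) (hsep : (f.map (IsLocalRing.residue A)).Separable)
    {R : Type u} [CommRing R] (φ : A →+* R) : (f.map φ).Separable := by
  suffices h : IsUnit (AdjoinRoot.mk f (derivative f)) by
    obtain ⟨g, hg⟩ := isUnit_iff_exists_inv.1 h
    obtain ⟨g', rfl⟩ := AdjoinRoot.mk_surjective g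
    rw [← map_mul, ← map_one (AdjoinRoot.mk f), AdjoinRoot.mk_eq_mk] at hg
    obtain ⟨q, hq⟩ := hg
    refine Separable.map ?_
    refine ⟨-q, g', ?_⟩
    linear_combination hq
  by_contra hu
  obtain ⟨Q, hQ, hmem⟩ := exists_max_ideal_of_mem_nonunits (mem_nonunits_iff.2 hu)
  haveI := hQ
  haveI : Module.Finite A (AdjoinRoot f) := hf.finite_adjoinRoot
  haveI : Algebra.IsIntegral A (AdjoinRoot f) := Algebra.IsIntegral.of_finite A _
  have hcom := IsLocalRing.eq_maximalIdeal (Ideal.isMaximal_comap_of_isIntegral_of_isMaximal (R := A) Q)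
  let π := Ideal.Quotient.mk Q
  let φ' : A →+* AdjoinRoot f ⧸ Q := π.comp (algebraMap A _)
  have hφ : ∀ a ∈ IsLocalRing.maximalIdeal A, φ' a = 0 := fun a ha =>
    Ideal.Quotient.eq_zero_iff_mem.2 (by rw [← hcom] at ha; exact ha)
  let φb : IsLocalRing.ResidueField A →+* AdjoinRoot f ⧸ Q := Ideal.Quotient.lift _ φ' hφ
  have hφb : φb.comp (IsLocalRing.residue A) = φ' := RingHom.ext fun a => rfl
  have hev : ∀ p : A[X], (p.map (IsLocalRing.residue A)).eval₂ φb (π (AdjoinRoot.root f)) =
      π (AdjoinRoot.mk f p) := fun p => by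
    rw [eval₂_map, hφb, ← AdjoinRoot.aeval_eq, aeval_def, hom_eval₂]
  obtain ⟨a, b, hab⟩ := hsep
  have h1 := congrArg (eval₂ φb (π (AdjoinRoot.root f))) hab
  rw [eval₂_add, eval₂_mul, eval₂_mul, derivative_map, hev, hev, AdjoinRoot.mk_self, map_zero, mul_zero,
    zero_add, Ideal.Quotient.eq_zero_iff_mem.2 hmem, mul_zero, eval₂_one] at h1
  exact hQ.ne_top ((Ideal.eq_top_iff_one Q).2 (Ideal.Quotient.eq_zero_iff_mem.1 h1.symm))

variable {B : Type u} [CommRing B] [IsLocalRing B] [IsDomain B] [Algebra A B]
  [IsLocalHom (algebraMap A B)]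

/-- Roots of a polynomial with separable reduction are separated residually. -/
theorem root_inj (f : A[X]) (hsep : (f.map (IsLocalRing.residue A)).Separable) {a b : B}
    (ha : aeval a f = 0) (hb : aeval b f = 0) (h : IsLocalRing.residue B a = IsLocalRing.residue B b) :
    a = b := by
  by_contra hne
  obtain ⟨g, hg⟩ := (dvd_iff_isRoot (p := f.map (algebraMap A B)) (a := a)).2 (by
    rw [IsRoot, eval_map_algebraMap, ha])
  have hgb : g.eval b = 0 := by
    have := congrArg (eval b) hg
    rw [eval_map_algebraMap, hb, eval_mul, eval_sub, eval_X, eval_C, zero_eq_mul] at this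
    exact this.resolve_left (sub_ne_zero.2 fun e => hne e.symm)
  set ρ := IsLocalRing.residue B
  have hs : ((f.map (algebraMap A B)).map ρ).Separable := by
    have h2 : ρ.comp (algebraMap A B) = (algebraMap (IsLocalRing.ResidueField A)
        (IsLocalRing.ResidueField B)).comp (IsLocalRing.residue A) := rfl
    rw [Polynomial.map_map, h2, ← Polynomial.map_map]
    exact hsep.map
  obtain ⟨u, w, huw⟩ := hs
  have h1 := congrArg (eval (ρ a)) huw
  rw [hg, Polynomial.map_mul, derivative_mul] at h1
  simp only [Polynomial.map_sub, map_X, map_C, eval_add, eval_mul, eval_sub, eval_X, eval_C, sub_self,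
    zero_mul, mul_zero, zero_add, derivative_sub, derivative_X, derivative_C, sub_zero, eval_one, one_mul,
    add_zero] at h1
  rw [h, eval_map_apply, hgb, map_zero, mul_zero] at h1
  exact zero_ne_one h1

/-- The residual action of an automorphism. -/
def res (s : B ≃ₐ[A] B) : IsLocalRing.ResidueField B →ₐ[IsLocalRing.ResidueField A] IsLocalRing.ResidueField B :=
  { (IsLocalRing.ResidueField.mapEquiv (s : B ≃+* B)).toRingHom with
    commutes' := fun k => by
      obtain ⟨a, rfl⟩ := IsLocalRing.residue_surjective k
      show IsLocalRing.residue B (s (algebraMap A B a)) = IsLocalRing.residue B (algebraMap A B a)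
      rw [s.commutes a] }

theorem res_residue (s : B ≃ₐ[A] B) (b : B) : res s (IsLocalRing.residue B b) = IsLocalRing.residue B (s b) :=
  rfl

variable {L : Type u} [Field L] [Algebra (IsLocalRing.ResidueField A) L]
  [FiniteDimensional (IsLocalRing.ResidueField A) L] {Ω : Type u} [Field Ω] [Algebra A Ω] [Algebra B Ω]
  [IsScalarTower A B Ω] [FaithfulSMul B Ω]

theorem splits_of_splits {f : A[X]} (hf : f.Monic) (hs : (f.map (algebraMap A Ω)).Splits)
    (hint : ∀ x : Ω, IsIntegral A x → x ∈ (algebraMap B Ω).range) : (f.map (algebraMap A B)).Splits := by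
  have e : (f.map (algebraMap A B)).map (algebraMap B Ω) = f.map (algebraMap A Ω) := by
    rw [Polynomial.map_map, ← IsScalarTower.algebraMap_eq]
  refine Splits.of_splits_map_of_injective (FaithfulSMul.algebraMap_injective B Ω) (e.symm ▸ hs) fun x hx => ?_
  rw [e] at hx
  exact hint x ⟨f, hf, by rw [← eval_map]; exact (mem_roots'.1 hx).2⟩

/-- The residual embedding of the extension generated by a root of the reduction. -/
theorem exists_emb {α : L} (hα : (IsLocalRing.ResidueField A)⟮α⟯ = ⊤) {f : A[X]} (hf : f.Monic)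
    (hfα : f.map (IsLocalRing.residue A) = minpoly (IsLocalRing.ResidueField A) α)
    (hs : (f.map (algebraMap A Ω)).Splits)
    (hint : ∀ x : Ω, IsIntegral A x → x ∈ (algebraMap B Ω).range) :
    ∃ (emb : L →ₐ[IsLocalRing.ResidueField A] IsLocalRing.ResidueField B) (b : B),
      aeval b f = 0 ∧ emb α = IsLocalRing.residue B b := by
  let κ := IsLocalRing.ResidueField A
  let kB := IsLocalRing.ResidueField B
  have hsB := splits_of_splits (B := B) hf hs hint
  have e : (minpoly κ α).map (algebraMap κ kB) = (f.map (algebraMap A B)).map (IsLocalRing.residue B) := by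
    rw [← hfα, Polynomial.map_map, Polynomial.map_map]
    rfl
  have hsk : ((minpoly κ α).map (algebraMap κ kB)).Splits := e ▸ hsB.map _
  obtain ⟨emb⟩ := nonempty_algHom_of_adjoin_splits (F := κ) (E := L) (K := kB) (S := {α})
    (fun s hs' => by rw [Set.mem_singleton_iff.1 hs']; exact ⟨Algebra.IsIntegral.isIntegral α, hsk⟩) hα
  have h0 : ((f.map (algebraMap A B)).map (IsLocalRing.residue B)).eval (emb α) = 0 := by
    rw [← e, eval_map_algebraMap, aeval_algHom_apply, minpoly.aeval, map_zero]
  rw [hsB.eq_prod_roots_of_monic (hf.map _), Polynomial.map_multiset_prod, eval_multiset_prod,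
    Multiset.prod_eq_zero_iff] at h0
  simp only [Multiset.map_map, Multiset.mem_map, Function.comp_apply, Polynomial.map_sub, map_X, map_C,
    eval_sub, eval_X, eval_C] at h0
  obtain ⟨b, hb, hb0⟩ := h0
  refine ⟨emb, b, ?_, sub_eq_zero.1 hb0⟩
  rw [← eval_map_algebraMap]
  exact (mem_roots'.1 hb).2

theorem algHom_ext_of_adjoin {α : L} (hα : (IsLocalRing.ResidueField A)⟮α⟯ = ⊤) {S : Type u} [CommRing S]
    [Algebra (IsLocalRing.ResidueField A) S] {φ ψ : L →ₐ[IsLocalRing.ResidueField A] S} (h : φ α = ψ α) :
    φ = ψ := by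
  have h2 : Algebra.adjoin (IsLocalRing.ResidueField A) {α} = ⊤ := by
    rw [← adjoin_simple_toSubalgebra_of_isAlgebraic (Algebra.IsAlgebraic.isAlgebraic α), hα, top_toSubalgebra]
  exact AlgHom.ext_of_adjoin_eq_top h2 fun x hx => by rw [Set.mem_singleton_iff.1 hx]; exact h

/-- An automorphism fixing the roots fixes the residual extension. -/
theorem res_comp_emb {α : L} (hα : (IsLocalRing.ResidueField A)⟮α⟯ = ⊤) {f : A[X]}
    (emb : L →ₐ[IsLocalRing.ResidueField A] IsLocalRing.ResidueField B) {b : B} (hb : aeval b f = 0)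
    (hemb : emb α = IsLocalRing.residue B b) (s : B ≃ₐ[A] B) (hfix : ∀ c : B, aeval c f = 0 → s c = c) :
    (res s).comp emb = emb :=
  algHom_ext_of_adjoin hα (by rw [AlgHom.comp_apply, hemb, res_residue, hfix b hb])

/-- Residual comparison homomorphism. -/
theorem exists_resHom [IsGalois (IsLocalRing.ResidueField A) L] {α : L}
    {f : A[X]} (hfα : f.map (IsLocalRing.residue A) = minpoly (IsLocalRing.ResidueField A) α)
    (emb : L →ₐ[IsLocalRing.ResidueField A] IsLocalRing.ResidueField B) {G : Type*} [Group G]
    (act : G →* (B ≃ₐ[A] B)) :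
    ∃ r : G →* (L ≃ₐ[IsLocalRing.ResidueField A] L),
      ∀ g : G, r g = 1 → ∀ c : B, aeval c f = 0 → act g c = c := by
  let κ := IsLocalRing.ResidueField A
  let kB := IsLocalRing.ResidueField B
  letI : Algebra L kB := emb.toRingHom.toAlgebra
  haveI : IsScalarTower κ L kB := IsScalarTower.of_algebraMap_eq fun x => (emb.commutes x).symm
  have hg : ∀ g, ∃ t : L ≃ₐ[κ] L, ∀ x, emb (t x) = res (act g) (emb x) := fun g =>
    ⟨(res (act g)).restrictNormal' L, fun x => (res (act g)).restrictNormal_commutes L x⟩
  choose r hr using hg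
  refine ⟨MonoidHom.mk' r fun g h => AlgEquiv.ext fun x => emb.injective ?_, fun g hg c hc => ?_⟩
  · show emb (r (g * h) x) = emb ((r g * r h) x)
    rw [hr, AlgEquiv.mul_apply, hr, hr]
    obtain ⟨z, hz⟩ := IsLocalRing.residue_surjective (emb x)
    rw [← hz, res_residue, res_residue, res_residue, map_mul, AlgEquiv.mul_apply]
  · have hsep : (f.map (IsLocalRing.residue A)).Separable := hfα ▸ Algebra.IsSeparable.isSeparable κ α
    refine root_inj f hsep ?_ hc ?_
    · rw [aeval_algHom_apply, hc, map_zero]
    · have h0 : (((minpoly κ α).map (algebraMap κ L)).map emb.toRingHom).IsRoot (IsLocalRing.residue B c) := by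
        rw [IsRoot, Polynomial.map_map, show emb.toRingHom.comp (algebraMap κ L) = algebraMap κ kB from
          emb.comp_algebraMap, ← hfα, Polynomial.map_map,
          show (algebraMap κ kB).comp (IsLocalRing.residue A) = (IsLocalRing.residue B).comp (algebraMap A B)
            from rfl, ← Polynomial.map_map, eval_map_apply, eval_map_algebraMap, hc, map_zero]
      have hspl := Normal.splits (F := κ) (K := L) inferInstance α
      obtain ⟨y, hy⟩ := hspl.mem_range_of_isRoot
        (map_ne_zero (minpoly.ne_zero (Algebra.IsIntegral.isIntegral α))) h0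
      have h1 := hr g y
      rw [show r g = 1 from hg, show emb y = IsLocalRing.residue B c from hy, res_residue] at h1
      exact h1.symm.trans hy

end Groth.Misc15.UnramH1
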