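import Groth.Agent.Misc15.UnramH1.Rigid
import Groth.Agent.Misc15.UnramH1.ResGalois
import Groth.Agent.Misc15.UnramH1.Ball
import Groth.Agent.Misc15.UnramH1.FormVal
import Groth.Agent.Misc15.AdicH1.Main

/-!
Groups of multiplicative type over a local ring of integers, split residually by a metacyclic extension.
-/

set_option autoImplicit false
set_option linter.style.haveILetI false

universe u

open CategoryTheory MonoidalCategory CartesianMonoidalCategory MonObj AlgebraicGeometry TensorProduct Polynomial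
  IntermediateField
open Groth.AlgGrp2 Groth.TorusPts Groth.Misc15.RatTorus Groth.Misc15.MultH1 Groth.Misc15.AdicH1

noncomputable section

namespace Groth.Misc15.UnramH1

open Groth.Reductive.MTInt Groth.Misc15.TorusDvr

variable {A : Type u} [CommRing A] [IsLocalRing A]

/-- an automorphism preserving the integers -/
def ballEquiv {𝕜 Ω : Type u} [Field 𝕜] [Field Ω] [Algebra A 𝕜] [Algebra 𝕜 Ω] [Algebra A Ω]
    [IsScalarTower A 𝕜 Ω] (B : Subalgebra A Ω) (hst : ∀ (σ : Ω ≃ₐ[𝕜] Ω) (x : Ω), x ∈ B → σ x ∈ B) :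
    (Ω ≃ₐ[𝕜] Ω) →* (B ≃ₐ[A] B) :=
  MonoidHom.mk' (fun σ =>
    { toFun := fun x => ⟨σ x.1, hst σ _ x.2⟩
      invFun := fun x => ⟨σ.symm x.1, hst σ.symm _ x.2⟩
      left_inv := fun x => Subtype.ext (σ.symm_apply_apply _)
      right_inv := fun x => Subtype.ext (σ.apply_symm_apply _)
      map_mul' := fun x y => Subtype.ext (map_mul σ _ _)
      map_add' := fun x y => Subtype.ext (map_add σ _ _)
      commutes' := fun a => Subtype.ext ((σ.restrictScalars A).commutes a) })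
    fun σ σ' => AlgEquiv.ext fun x => rfl

theorem aeval_coe_eq_zero {Ω : Type u} [Field Ω] [Algebra A Ω] {B : Subalgebra A Ω} {f : A[X]} {c : B}
    (h : aeval c f = 0) : aeval (c : Ω) f = 0 := by
  rw [show (c : Ω) = B.val c from rfl, aeval_algHom_apply, h, map_zero]

variable {𝕜 : Type u} [NontriviallyNormedField 𝕜] [CompleteSpace 𝕜] [IsUltrametricDist 𝕜] [Algebra A 𝕜]

/-- The splitting field of a lift has cyclic Sylow Galois groups. -/
theorem isCyclic_sylow_splittingField (hle : ∀ a, ‖algebraMap A 𝕜 a‖ ≤ 1)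
    (hlt : ∀ a ∈ IsLocalRing.maximalIdeal A, ‖algebraMap A 𝕜 a‖ < 1) {L : Type u} [Field L]
    [Algebra (IsLocalRing.ResidueField A) L] [FiniteDimensional (IsLocalRing.ResidueField A) L]
    [IsGalois (IsLocalRing.ResidueField A) L]
    (hcyc : ∀ (p : ℕ) [Fact p.Prime] (P : Sylow p (L ≃ₐ[IsLocalRing.ResidueField A] L)), IsCyclic P)
    {α : L} (hα : (IsLocalRing.ResidueField A)⟮α⟯ = ⊤) {f : A[X]} (hf : f.Monic)
    (hfα : f.map (IsLocalRing.residue A) = minpoly (IsLocalRing.ResidueField A) α)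
    (L₂ : Type u) [Field L₂] [Algebra 𝕜 L₂] [Algebra A L₂] [IsScalarTower A 𝕜 L₂] [FiniteDimensional 𝕜 L₂]
    [(f.map (algebraMap A 𝕜)).IsSplittingField 𝕜 L₂] (p : ℕ) [Fact p.Prime]
    (P : Sylow p (L₂ ≃ₐ[𝕜] L₂)) : IsCyclic P := by
  obtain ⟨B, hB, hBloc, hint, hst⟩ := exists_ball A 𝕜 hle hlt L₂
  haveI := hB; haveI := hBloc
  have hs : (f.map (algebraMap A L₂)).Splits := by
    have h := IsSplittingField.splits (K := 𝕜) L₂ (f.map (algebraMap A 𝕜))
    rwa [Polynomial.map_map, ← IsScalarTower.algebraMap_eq] at h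
  have hint' : ∀ x : L₂, IsIntegral A x → x ∈ (algebraMap B L₂).range := fun x hx => ⟨⟨x, hint x hx⟩, rfl⟩
  obtain ⟨emb, b, hb, hemb⟩ := exists_emb (B := B) (Ω := L₂) hα hf hfα hs hint'
  obtain ⟨r, hr⟩ := exists_resHom (B := B) hfα emb (ballEquiv B hst)
  refine isCyclic_sylow_of_injective r ?_ @hcyc p P
  refine (injective_iff_map_eq_one r).2 fun σ hσ => ?_
  have h2 : (σ : L₂ →ₐ[𝕜] L₂) = AlgHom.id 𝕜 L₂ := by
    refine AlgHom.ext_of_adjoin_eq_top (IsSplittingField.adjoin_rootSet L₂ (f.map (algebraMap A 𝕜))) fun x hx => ?_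
    have hx' : aeval x f = 0 := by
      have := aeval_eq_zero_of_mem_rootSet hx
      rwa [aeval_map_algebraMap] at this
    let c : B := ⟨x, hint x ⟨f, hf, hx'⟩⟩
    have hc : aeval c f = 0 := Subtype.ext (by
      rw [← Subalgebra.coe_val, ← aeval_algHom_apply]
      exact hx')
    exact congrArg Subtype.val (hr σ hσ c hc)
  exact AlgEquiv.ext fun x => AlgHom.congr_fun h2 x

/-- The splitting hypothesis for the generic fibre. -/
theorem cycSplit_unram (hle : ∀ a, ‖algebraMap A 𝕜 a‖ ≤ 1)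
    (hlt : ∀ a ∈ IsLocalRing.maximalIdeal A, ‖algebraMap A 𝕜 a‖ < 1)
    {K : Type u} [Field K] [Algebra A K] [Algebra K 𝕜] [IsScalarTower A K 𝕜]
    {M : Over (Spec (CommRingCat.of A))} [GrpObj M] {E : Type u} [Field E] [Algebra K E] [Algebra A E]
    [IsScalarTower A K E] (F : Form K E) (j : F.sch ≅ Red.bc (str A K) M) [IsMonHom j.hom]
    {S' : Scheme.{u}} (f₀ : S' ⟶ Spec (CommRingCat.of A)) [IsFinite f₀] {Λ₀ : Type} [AddCommGroup Λ₀]
    (hloc : ∀ s' : S', ∃ U : S'.Opens, s' ∈ U ∧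
      Nonempty (Grp.mk (Red.bc (U.ι ≫ f₀) M) ≅ Grp.mk (Red.DS (U : Scheme.{u}) Λ₀)))
    {E' : Type u} [Field E'] [Algebra K E'] [Algebra.IsSeparable K E'] [Algebra A E'] [IsScalarTower A K E']
    (q : Spec (CommRingCat.of E') ⟶ S') (hq : q ≫ f₀ = str A E')
    (L : Type u) [Field L] [Algebra (IsLocalRing.ResidueField A) L]
    [FiniteDimensional (IsLocalRing.ResidueField A) L] [IsGalois (IsLocalRing.ResidueField A) L]
    (hcyc : ∀ (p : ℕ) [Fact p.Prime] (P : Sylow p (L ≃ₐ[IsLocalRing.ResidueField A] L)), IsCyclic P)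
    {Λ : Type} [AddCommGroup Λ]
    (eL : Grp.mk (Red.bc (Spec.map (CommRingCat.ofHom (algebraMap (IsLocalRing.ResidueField A) L)) ≫
      Spec.map (CommRingCat.ofHom (IsLocalRing.residue A))) M) ≅ Grp.mk (Red.DS (Spec (CommRingCat.of L)) Λ)) :
    CycSplit F 𝕜 1 := by
  obtain ⟨α, hα⟩ := Field.exists_primitive_element (IsLocalRing.ResidueField A) L
  obtain ⟨f, hfα, -, hf⟩ := lifts_and_degree_eq_and_monic (f := IsLocalRing.residue A)
    (by
      rw [lifts_iff_coeff_lifts]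
      exact fun n => IsLocalRing.residue_surjective _)
    (minpoly.monic (Algebra.IsIntegral.isIntegral (R := IsLocalRing.ResidueField A) α))
  let L₂ := (f.map (algebraMap A 𝕜)).SplittingField
  have hsep : (f.map (IsLocalRing.residue A)).Separable := hfα ▸ Algebra.IsSeparable.isSeparable _ α
  haveI : FiniteDimensional 𝕜 L₂ := IsSplittingField.finiteDimensional L₂ (f.map (algebraMap A 𝕜))
  haveI : IsGalois 𝕜 L₂ :=
    IsGalois.of_separable_splitting_field (separable_map f hf hsep (algebraMap A 𝕜))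
  refine ⟨L₂, inferInstance, inferInstance, inferInstance, inferInstance,
    fun p _ P => isCyclic_sylow_splittingField hle hlt @hcyc hα hf hfα L₂ p P,
    fun Ω _ _ _ _ _ _ τ τ₂ σ g hg hσ m => ?_⟩
  rw [zpow_one, zpow_one]
  letI : Algebra A Ω := ((algebraMap 𝕜 Ω).comp (algebraMap A 𝕜)).toAlgebra
  haveI : IsScalarTower A 𝕜 Ω := IsScalarTower.of_algebraMap_eq fun _ => rfl
  obtain ⟨B, hB, hBloc, hint, hst⟩ := exists_ball A 𝕜 hle hlt Ω
  haveI := hB; haveI := hBloc
  have hτA : (τ : E →+* Ω).comp (algebraMap A E) = algebraMap A Ω := RingHom.ext fun a => by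
    show τ (algebraMap A E a) = algebraMap 𝕜 Ω (algebraMap A 𝕜 a)
    rw [IsScalarTower.algebraMap_apply A K E, τ.commutes, IsScalarTower.algebraMap_apply A K 𝕜,
      IsScalarTower.algebraMap_apply K 𝕜 Ω]
  let τ' : E' →ₐ[K] Ω := IsSepClosed.lift
  have hτ'A : (τ' : E' →+* Ω).comp (algebraMap A E') = algebraMap A Ω := RingHom.ext fun a => by
    show τ' (algebraMap A E' a) = algebraMap 𝕜 Ω (algebraMap A 𝕜 a)
    rw [IsScalarTower.algebraMap_apply A K E', τ'.commutes, IsScalarTower.algebraMap_apply A K 𝕜,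
      IsScalarTower.algebraMap_apply K 𝕜 Ω]
  -- the trivialisation over the integers
  haveI : IsAffine S' := isAffine_of_isAffineHom f₀
  obtain ⟨φ, hφ⟩ : ∃ φ : CommRingCat.of A ⟶ Γ(S', ⊤), Spec.map φ = S'.isoSpec.inv ≫ f₀ :=
    ⟨_, Spec.map_preimage _⟩
  letI := φ.hom.toAlgebra
  have hfinφ : φ.hom.Finite := by
    rw [← IsFinite.SpecMap_iff, hφ]
    infer_instance
  haveI : Module.Finite A Γ(S', ⊤) := hfinφ
  obtain ⟨χ, hχ⟩ : ∃ χ : Γ(S', ⊤) ⟶ CommRingCat.of Ω,
      Spec.map χ = (Spec.map (CommRingCat.ofHom (τ' : E' →+* Ω)) ≫ q) ≫ S'.isoSpec.hom :=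
    ⟨_, Spec.map_preimage _⟩
  have hχA : φ ≫ χ = CommRingCat.ofHom (algebraMap A Ω) := by
    apply Spec.map_injective
    rw [Spec.map_comp, hφ, hχ]
    simp only [Category.assoc, Iso.hom_inv_id_assoc]
    rw [hq, ← Spec.map_comp, ← CommRingCat.ofHom_comp, hτ'A]
  let χ' : Γ(S', ⊤) →ₐ[A] Ω := { χ.hom with commutes' := fun a => congrArg (fun z => z.hom a) hχA }
  let χB : Γ(S', ⊤) →ₐ[A] B := χ'.codRestrict B fun c => hint _ ((Algebra.IsIntegral.isIntegral c).map χ')
  let qB : Spec (CommRingCat.of B) ⟶ S' := Spec.map (CommRingCat.ofHom (χB : Γ(S', ⊤) →+* B)) ≫ S'.isoSpec.inv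
  have hqB : qB ≫ f₀ = str A B := by
    rw [Category.assoc, ← hφ, ← Spec.map_comp]
    congr 1
    exact CommRingCat.hom_ext (RingHom.ext fun a => χB.commutes a)
  obtain ⟨U, hU, ⟨eU⟩⟩ := hloc (qB.base (IsLocalRing.closedPoint B))
  have hrange : Set.range qB.base ⊆ Set.range U.ι.base := by
    rw [Scheme.Opens.range_ι]
    rintro _ ⟨x, rfl⟩
    exact ((IsLocalRing.specializes_closedPoint x).map qB.base.hom.2).mem_open U.2 hU
  let τB : Triv M (sp (algebraMap A B)) := trivOfIso eU (IsOpenImmersion.lift U.ι qB hrange) (by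
    rw [IsOpenImmersion.lift_fac_assoc]; exact hqB)
  letI : Algebra A L := ((algebraMap (IsLocalRing.ResidueField A) L).comp (IsLocalRing.residue A)).toAlgebra
  let τL : Triv M (sp (algebraMap A L)) := trivOfIso eL (𝟙 _) (by
    rw [Category.id_comp, ← Spec.map_comp]; rfl)
  -- the residual embedding
  have hsΩ : (f.map (algebraMap A Ω)).Splits := by
    have h := (IsSplittingField.splits (K := 𝕜) L₂ (f.map (algebraMap A 𝕜))).map (τ₂ : L₂ →+* Ω)
    rwa [Polynomial.map_map, AlgHom.comp_algebraMap, Polynomial.map_map] at h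
  have hint' : ∀ x : Ω, IsIntegral A x → x ∈ (algebraMap B Ω).range := fun x hx => ⟨⟨x, hint x hx⟩, rfl⟩
  obtain ⟨emb, b, hb, hemb⟩ := exists_emb (B := B) (Ω := Ω) hα hf hfα hsΩ hint'
  let σB : B ≃ₐ[A] B := ballEquiv B hst σ
  have hroots : ∀ c : B, aeval c f = 0 → σB c = c := fun c hc => Subtype.ext (by
    have hc' := aeval_coe_eq_zero hc
    obtain ⟨y, hy⟩ : (c : Ω) ∈ (τ₂ : L₂ →+* Ω).range := by
      refine (IsSplittingField.splits (K := 𝕜) L₂ (f.map (algebraMap A 𝕜))).mem_range_of_isRoot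
        (((hf.map _).map _).ne_zero) ?_
      rw [IsRoot, Polynomial.map_map, AlgHom.comp_algebraMap, Polynomial.map_map,
        ← IsScalarTower.algebraMap_eq, eval_map_algebraMap, hc']
    show σ (c : Ω) = (c : Ω)
    rw [← hy]
    exact hσ y)
  -- the characters of the form through the trivialisation
  let cD : A →+* Ω := (τ : E →+* Ω).comp (algebraMap A E)
  have hβ : (B.val : B →+* Ω).comp (algebraMap A B) = cD := hτA.symm
  obtain ⟨θ, hθ⟩ := exists_char τB (B.val : B →+* Ω) hβ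
    (fun S _ f => val F j (f.comp (τ : E →+* Ω)) (f.comp cD) (RingHom.comp_assoc _ _ _))
    (fun S S' _ _ f g x n =>
      val_map F j (f.comp (τ : E →+* Ω)) g (f.comp cD) ((g.comp f).comp cD) (RingHom.comp_assoc _ _ _)
        (RingHom.comp_assoc _ _ _) (RingHom.comp_assoc _ _ _).symm x n)
  have hθ' : ∀ (S : Type u) [CommRing S] (f : Ω →+* S) (c : A →+* S)
      (h1 : (f.comp (τ : E →+* Ω)).comp (algebraMap A E) = c)
      (h2 : (f.comp (B.val : B →+* Ω)).comp (algebraMap A B) = c) (x : sp c ⟶ M) (n : F.N),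
      val F j (f.comp (τ : E →+* Ω)) c h1 x n = Φ τB (f.comp (B.val : B →+* Ω)) c h2 x (θ n) := by
    intro S _ f c h1 h2 x n
    subst h1
    exact hθ S f x n
  refine val_separated F j (τ : E →+* Ω) fun S _ f x => ?_
  have e1 : (f.comp (τ : E →+* Ω)).comp (g : E →+* E) = (f.comp (σ : Ω →+* Ω)).comp (τ : E →+* Ω) :=
    RingHom.ext fun a => congrArg f (hg a).symm
  have e2 : (f.comp (σ : Ω →+* Ω)).comp (B.val : B →+* Ω) =
      (f.comp (B.val : B →+* Ω)).comp (σB : B →+* B) := rfl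
  have h0 : (f.comp (τ : E →+* Ω)).comp (algebraMap A E) = f.comp cD := RingHom.comp_assoc _ _ _
  have h1 : ((f.comp (τ : E →+* Ω)).comp (g : E →+* E)).comp (algebraMap A E) = f.comp cD := by
    rw [RingHom.comp_assoc]
    refine RingHom.ext fun a => congrArg (fun z => f (τ z)) ?_
    show g (algebraMap A E a) = algebraMap A E a
    rw [IsScalarTower.algebraMap_apply A K E, g.commutes]
  have h3 : (f.comp (B.val : B →+* Ω)).comp (algebraMap A B) = f.comp cD := by
    rw [RingHom.comp_assoc, hβ]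
  have hg' : (σB : B →+* B).comp (algebraMap A B) = algebraMap A B := RingHom.ext fun a => σB.commutes a
  have h4 : ((f.comp (B.val : B →+* Ω)).comp (σB : B →+* B)).comp (algebraMap A B) = f.comp cD := by
    rw [RingHom.comp_assoc, hg', h3]
  rw [← val_twist F j _ g (f.comp cD) h0 h1 x m, val_congr F j e1 (f.comp cD) h1 (e1 ▸ h1) x m,
    hθ' S (f.comp (σ : Ω →+* Ω)) (f.comp cD) (e1 ▸ h1) (e2 ▸ h4) x m,
    Φ_congr τB e2 (e2 ▸ h4) h4 x _]
  refine Eq.trans ?_ (hθ' S f (f.comp cD) h0 h3 x m).symm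
  exact Φ_comp_eq τB τL (IsLocalRing.residue B) (emb : L →+* IsLocalRing.ResidueField B)
    (RingHom.ext fun a => (emb.commutes (IsLocalRing.residue A a)).symm)
    (σB : B →+* B) hg' (res σB : IsLocalRing.ResidueField B →+* IsLocalRing.ResidueField B)
    (RingHom.ext fun x => (res_residue σB x).symm)
    (RingHom.ext fun x => AlgHom.congr_fun (res_comp_emb hα emb hb hemb σB hroots) x)
    S _ _ h3 h4 x _

end Groth.Misc15.UnramH1
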